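import Groth.Agent.S14795
import Groth.Agent.MorLib.RingUnivHomeo
import Mathlib.RingTheory.Smooth.IntegralClosure
import Mathlib.RingTheory.Flat.Basic

/-!
# Weak subintegral closure and base change
-/

set_option autoImplicit false
set_option backward.isDefEq.respectTransparency false
set_option backward.isDefEq.respectTransparency.types false
set_option maxHeartbeats 800000
universe u

open CategoryTheory AlgebraicGeometry TensorProduct
open Groth.Agent.MorLib

namespace Groth.Agent.H6WeakSub

section Transfer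

variable {A D₁ D₂ : Type u} [CommRing A] [CommRing D₁] [CommRing D₂] [Algebra A D₁] [Algebra A D₂]

theorem isUnivHomeo_of_algEquiv (e : D₁ ≃ₐ[A] D₂)
    (h : FlatMor.IsUnivHomeo (Spec.map (CommRingCat.ofHom (algebraMap A D₁)))) :
    FlatMor.IsUnivHomeo (Spec.map (CommRingCat.ofHom (algebraMap A D₂))) := by
  obtain ⟨h1, h2, h3⟩ := (RUH.isUnivHomeo_SpecMap_iff _).1 h
  refine (RUH.isUnivHomeo_SpecMap_iff _).2 ⟨fun d => ?_, ?_, fun p => ?_⟩
  · obtain ⟨d, rfl⟩ := e.surjective d
    exact IsIntegral.map e.toAlgHom (h1 d : IsIntegral A d)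
  · intro K _ f g hfg
    have := h2 K (f.comp e.toRingEquiv.toRingHom) (g.comp e.toRingEquiv.toRingHom) (by
      ext a
      simpa using congr($hfg a))
    ext d
    obtain ⟨d, rfl⟩ := e.surjective d
    exact congr($this d)
  · obtain ⟨q, rfl⟩ := h3 p
    refine ⟨PrimeSpectrum.comap e.symm.toRingEquiv.toRingHom q, ?_⟩
    refine PrimeSpectrum.ext (Ideal.ext fun a => ?_)
    simp

end Transfer

variable {A B : Type u} [CommRing A] [CommRing B] [Algebra A B]
variable {A' : Type u} [CommRing A'] [Algebra A A']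

/-- A radicial extension stays below every maximal one after a flat base change. -/
theorem range_subset [Module.Flat A A'] (hinj : Function.Injective (algebraMap A B))
    (C : Subalgebra A B) (hC : FlatMor.IsUnivHomeo (Spec.map (CommRingCat.ofHom (algebraMap A C))))
    (C' : Subalgebra A' (A' ⊗[A] B))
    (hmax' : ∀ D : Subalgebra A' (A' ⊗[A] B),
      FlatMor.IsUnivHomeo (Spec.map (CommRingCat.ofHom (algebraMap A' D))) → D ≤ C') :
    Set.range (Algebra.TensorProduct.map (AlgHom.id A A') C.val) ⊆ (C' : Set (A' ⊗[A] B)) := by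
  obtain ⟨h1, h2, -⟩ := (RUH.isUnivHomeo_SpecMap_iff _).1 hC
  let m : A' ⊗[A] C →ₐ[A'] A' ⊗[A] B := Algebra.TensorProduct.map (AlgHom.id A' A') C.val
  rintro _ ⟨w, rfl⟩
  refine hmax' m.range ?_ ⟨w, rfl⟩
  have hinj' : Function.Injective (algebraMap A' (A' ⊗[A] B)) := by
    have h := Module.Flat.lTensor_preserves_injective_linearMap (M := A')
      (Algebra.linearMap A B) hinj
    intro a b hab
    refine (TensorProduct.rid A A').symm.injective (h ?_)
    simpa [Algebra.TensorProduct.algebraMap_apply] using hab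
  haveI : Algebra.IsIntegral A C := ⟨h1⟩
  refine RUH.isUnivHomeo_of_injective _
    (fun a b hab => hinj' (congrArg Subtype.val hab)) (fun d => ?_) ?_
  · obtain ⟨d, z, rfl⟩ := d
    have hz : IsIntegral A' z := Algebra.IsIntegral.isIntegral z
    exact (isIntegral_algHom_iff m.range.val Subtype.val_injective).1 (hz.map m)
  · intro K _ f g hfg
    let e : A' ⊗[A] C →ₐ[A'] m.range := m.rangeRestrict
    have key : ∀ z, f (e z) = g (e z) := by
      intro z
      have hc := h2 K ((f.comp e.toRingHom).comp Algebra.TensorProduct.includeRight.toRingHom)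
        ((g.comp e.toRingHom).comp Algebra.TensorProduct.includeRight.toRingHom) (by
          ext a
          have := congr($hfg (algebraMap A A' a))
          change f (e (Algebra.TensorProduct.includeRight (algebraMap A C a))) =
            g (e (Algebra.TensorProduct.includeRight (algebraMap A C a)))
          rw [AlgHom.commutes, IsScalarTower.algebraMap_apply A A' (A' ⊗[A] C), AlgHom.commutes]
          exact this)
      induction z using TensorProduct.induction_on with
      | zero => simp
      | tmul a c =>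
        rw [show a ⊗ₜ[A] c = algebraMap A' (A' ⊗[A] C) a * (1 : A') ⊗ₜ[A] c by simp]
        simp only [map_mul, AlgHom.commutes]
        exact congrArg₂ (· * ·) (congr($hfg a)) (congr($hc c))
      | add p q hp hq => simp only [map_add, hp, hq]
    ext d
    obtain ⟨d, z, rfl⟩ := d
    exact key z

/-- The kernel of two maps to a reduced ring absorbs radicial subalgebras after base change. -/
theorem exists_lTensor_eq [Module.Flat A A'] {N Bb Q R : Type u} [CommRing Bb] [Algebra A Bb] [CommRing Q]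
    [Algebra A Q] [AddCommGroup N] [Module A N] [CommRing R] [Algebra A' R] [IsReduced (A' ⊗[A] Q)]
    (l r : Bb →ₐ[A] Q) (i : N →ₗ[A] Bb) (hex : Function.Exact i (l.toLinearMap - r.toLinearMap))
    (h : R →ₐ[A'] A' ⊗[A] Bb) (y : R)
    (hnil : IsNilpotent (y ⊗ₜ[A'] (1 : R) - (1 : R) ⊗ₜ[A'] y)) :
    ∃ w, i.lTensor A' w = h y := by
  let l' : A' ⊗[A] Bb →ₐ[A'] A' ⊗[A] Q := Algebra.TensorProduct.map (AlgHom.id A' A') l
  let r' : A' ⊗[A] Bb →ₐ[A'] A' ⊗[A] Q := Algebra.TensorProduct.map (AlgHom.id A' A') r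
  have hzero : l' (h y) - r' (h y) = 0 := by
    have := hnil.map (Algebra.TensorProduct.lift (l'.comp h) (r'.comp h) fun _ _ => Commute.all _ _)
    simpa using this.eq_zero
  have hlin : ∀ z : A' ⊗[A] Bb,
      (l.toLinearMap - r.toLinearMap).lTensor A' z = l' z - r' z := by
    intro z
    induction z using TensorProduct.induction_on with
    | zero => simp
    | tmul a b => simp [l', r', TensorProduct.tmul_sub]
    | add p q hp hq => rw [map_add, map_add, map_add, hp, hq]; abel
  exact (Module.Flat.lTensor_exact A' hex (h y)).1 (by rw [hlin, hzero])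

/-- The fixed locus of the two maps to the reduced tensor square. -/
theorem exists_exact {Bb : Type u} [CommRing Bb] [Algebra A Bb] (C0 : Subalgebra A Bb)
    (h0 : ∀ b : Bb, b ∈ C0 ↔ IsNilpotent (b ⊗ₜ[A] (1 : Bb) - (1 : Bb) ⊗ₜ[A] b)) :
    ∃ (Q : Type u) (_ : CommRing Q) (_ : Algebra A Q) (_ : IsReduced Q) (l r : Bb →ₐ[A] Q),
      Function.Exact C0.val.toLinearMap (l.toLinearMap - r.toLinearMap) := by
  refine ⟨(Bb ⊗[A] Bb) ⧸ nilradical (Bb ⊗[A] Bb), inferInstance, inferInstance,
    (Ideal.isRadical_iff_quotient_reduced _).1 (Ideal.radical_isRadical _),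
    (Ideal.Quotient.mkₐ A _).comp Algebra.TensorProduct.includeLeft,
    (Ideal.Quotient.mkₐ A _).comp Algebra.TensorProduct.includeRight, ?_⟩
  intro b
  rw [LinearMap.sub_apply]
  refine Iff.trans ?_ ⟨fun h => ⟨⟨b, h⟩, rfl⟩, by rintro ⟨c, rfl⟩; exact c.2⟩
  rw [h0, ← mem_nilradical, ← Ideal.Quotient.eq_zero_iff_mem, map_sub]
  rfl

/-- Compatibility of the comparison maps. -/
theorem map_lTensor_eq (C : Subalgebra A B) (C0 : Subalgebra A (integralClosure A B))
    (e : C0 →ₐ[A] C) (he : ∀ c, (e c : B) = ((c : integralClosure A B) : B)) (w : A' ⊗[A] C0) :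
    Algebra.TensorProduct.map (AlgHom.id A A') C.val
        (Algebra.TensorProduct.map (AlgHom.id A A') e w) =
      (TensorProduct.toIntegralClosure A A' B (C0.val.toLinearMap.lTensor A' w) :
        A' ⊗[A] B) := by
  induction w using TensorProduct.induction_on with
  | zero => simp
  | tmul a c =>
    change a ⊗ₜ[A] (e c : B) = a ⊗ₜ[A] ((c : integralClosure A B) : B)
    rw [he]
  | add p q hp hq => simp only [map_add, hp, hq, Subalgebra.coe_add]

/-- The other inclusion, when base change preserves integral closure and reducedness. -/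
theorem subset_range [Module.Flat A A'] (hinj : Function.Injective (algebraMap A B))
    (hred : ∀ (Q : Type u) [CommRing Q] [Algebra A Q] [IsReduced Q], IsReduced (A' ⊗[A] Q))
    (hic : Function.Bijective (TensorProduct.toIntegralClosure A A' B))
    (C : Subalgebra A B) (hC : FlatMor.IsUnivHomeo (Spec.map (CommRingCat.ofHom (algebraMap A C))))
    (hmax : ∀ D : Subalgebra A B,
      FlatMor.IsUnivHomeo (Spec.map (CommRingCat.ofHom (algebraMap A D))) → D ≤ C)
    (C' : Subalgebra A' (A' ⊗[A] B))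
    (hC' : FlatMor.IsUnivHomeo (Spec.map (CommRingCat.ofHom (algebraMap A' C')))) :
    (C' : Set (A' ⊗[A] B)) ⊆ Set.range (Algebra.TensorProduct.map (AlgHom.id A A') C.val) := by
  obtain ⟨hCi, -, -⟩ := (RUH.isUnivHomeo_SpecMap_iff _).1 hC
  obtain ⟨hC'i, hC'r, -⟩ := (RUH.isUnivHomeo_SpecMap_iff _).1 hC'
  let Bb : Subalgebra A B := integralClosure A B
  have hCle : C ≤ Bb := fun c hc => IsIntegral.map C.val (hCi ⟨c, hc⟩ : IsIntegral A (⟨c, hc⟩ : C))
  -- the closure inside the integral closure
  let C0 : Subalgebra A Bb := C.comap Bb.val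
  let e0 : C0 ≃ₐ[A] C := AlgEquiv.ofBijective
    ((Bb.val.comp C0.val).codRestrict C fun c => c.2)
    ⟨fun a b h => Subtype.ext (Subtype.ext (congrArg Subtype.val h :)),
      fun c => ⟨⟨⟨c, hCle c.2⟩, c.2⟩, rfl⟩⟩
  have hC0 : FlatMor.IsUnivHomeo (Spec.map (CommRingCat.ofHom (algebraMap A C0))) :=
    isUnivHomeo_of_algEquiv e0.symm hC
  have hmax0 : ∀ D : Subalgebra A Bb,
      FlatMor.IsUnivHomeo (Spec.map (CommRingCat.ofHom (algebraMap A D))) → D ≤ C0 := by
    intro D hD d hd
    exact hmax (D.map Bb.val)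
      (isUnivHomeo_of_algEquiv (Subalgebra.equivMapOfInjective D Bb.val Subtype.val_injective) hD)
      ⟨d, hd, rfl⟩
  have hinj0 : Function.Injective (algebraMap A Bb) := fun a b h => hinj (congrArg Subtype.val h)
  haveI : Algebra.IsIntegral A Bb := inferInstanceAs (Algebra.IsIntegral A (integralClosure A B))
  have h0 : ∀ b : Bb, b ∈ C0 ↔ IsNilpotent (b ⊗ₜ[A] (1 : Bb) - (1 : Bb) ⊗ₜ[A] b) :=
    fun b => Groth.Agent.S14795.result hinj0 C0 hC0 hmax0 b
  -- the exact sequence with reduced last term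
  obtain ⟨Q, _, _, _, l, r, hex⟩ := exists_exact C0 h0
  haveI := hred Q
  -- the given extension inside the base changed integral closure
  have hle : C' ≤ integralClosure A' (A' ⊗[A] B) := fun c hc =>
    IsIntegral.map C'.val (hC'i ⟨c, hc⟩ : IsIntegral A' (⟨c, hc⟩ : C'))
  let eic : A' ⊗[A] Bb ≃ₐ[A'] integralClosure A' (A' ⊗[A] B) :=
    AlgEquiv.ofBijective (TensorProduct.toIntegralClosure A A' B) hic
  let h : C' →ₐ[A'] A' ⊗[A] Bb := eic.symm.toAlgHom.comp (Subalgebra.inclusion hle)
  intro y hy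
  have hnil : IsNilpotent ((⟨y, hy⟩ : C') ⊗ₜ[A'] (1 : C') - (1 : C') ⊗ₜ[A'] (⟨y, hy⟩ : C')) :=
    (DescLib.universallyInjective_Spec_iff A' C').1
      ((RUH.universallyInjective_SpecMap_iff _).2 hC'r) (by simp [RingHom.mem_ker])
  obtain ⟨w, hw⟩ := exists_lTensor_eq l r C0.val.toLinearMap hex h ⟨y, hy⟩ hnil
  refine ⟨Algebra.TensorProduct.map (AlgHom.id A A') e0.toAlgHom w, ?_⟩
  rw [map_lTensor_eq C C0 e0.toAlgHom (fun c => rfl) w, hw]
  change ((eic (eic.symm (Subalgebra.inclusion hle ⟨y, hy⟩))) : A' ⊗[A] B) = y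
  rw [AlgEquiv.apply_symm_apply]
  rfl

end Groth.Agent.H6WeakSub
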